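import Mathlib.Algebra.Homology.DerivedCategory.ExactFunctor
import Mathlib.Algebra.Homology.DerivedCategory.TStructure

/-!
# Functoriality of `mapDerivedCategory`
-/

set_option autoImplicit false

universe w₁ w₂ w₃ v₁ v₂ v₃ u₁ u₂ u₃

open CategoryTheory CategoryTheory.Limits

namespace Groth.DerivedCoh.DMinus

variable {A : Type u₁} [Category.{v₁} A] [Abelian A] [HasDerivedCategory.{w₁} A]
  {B : Type u₂} [Category.{v₂} B] [Abelian B] [HasDerivedCategory.{w₂} B]
  {C : Type u₃} [Category.{v₃} C] [Abelian C] [HasDerivedCategory.{w₃} C]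

local notation "up" => ComplexShape.up ℤ

theorem nonempty_comp_iso (F : A ⥤ B) (G : B ⥤ C) (H : A ⥤ C) [F.Additive] [G.Additive] [H.Additive]
    [PreservesFiniteLimits F] [PreservesFiniteColimits F] [PreservesFiniteLimits G] [PreservesFiniteColimits G]
    [PreservesFiniteLimits H] [PreservesFiniteColimits H] (e : F ⋙ G ≅ H) :
    Nonempty (F.mapDerivedCategory ⋙ G.mapDerivedCategory ≅ H.mapDerivedCategory) := by
  let W := HomologicalComplex.quasiIso A up
  let i : DerivedCategory.Q ⋙ F.mapDerivedCategory ⋙ G.mapDerivedCategory ≅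
      H.mapHomologicalComplex up ⋙ DerivedCategory.Q :=
    (Functor.associator _ _ _).symm ≪≫ Functor.isoWhiskerRight F.mapDerivedCategoryFactors _ ≪≫
      Functor.associator _ _ _ ≪≫ Functor.isoWhiskerLeft _ G.mapDerivedCategoryFactors ≪≫
      (Functor.associator _ _ _).symm ≪≫ Functor.isoWhiskerRight
        (NatIso.ofComponents (fun K => HomologicalComplex.Hom.isoOfComponents (fun n => e.app (K.X n))
          (fun i j _ => (e.hom.naturality (K.d i j)).symm)) (fun f => by ext n; exact e.hom.naturality (f.f n))) _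
  letI : Localization.Lifting DerivedCategory.Q W (H.mapHomologicalComplex up ⋙ DerivedCategory.Q)
      (F.mapDerivedCategory ⋙ G.mapDerivedCategory) := ⟨i⟩
  exact ⟨Localization.liftNatIso DerivedCategory.Q W (H.mapHomologicalComplex up ⋙ DerivedCategory.Q)
    (H.mapHomologicalComplex up ⋙ DerivedCategory.Q) _ _ (Iso.refl _)⟩

theorem nonempty_id_iso (H : A ⥤ A) [H.Additive] [PreservesFiniteLimits H] [PreservesFiniteColimits H]
    (e : 𝟭 A ≅ H) : Nonempty (𝟭 (DerivedCategory A) ≅ H.mapDerivedCategory) := by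
  let W := HomologicalComplex.quasiIso A up
  let i : DerivedCategory.Q ⋙ 𝟭 (DerivedCategory A) ≅ H.mapHomologicalComplex up ⋙ DerivedCategory.Q :=
    Functor.rightUnitor _ ≪≫ (Functor.leftUnitor _).symm ≪≫ Functor.isoWhiskerRight
        (NatIso.ofComponents (fun K => HomologicalComplex.Hom.isoOfComponents (fun n => e.app (K.X n))
          (fun i j _ => (e.hom.naturality (K.d i j)).symm)) (fun f => by ext n; exact e.hom.naturality (f.f n))) _
  letI : Localization.Lifting DerivedCategory.Q W (H.mapHomologicalComplex up ⋙ DerivedCategory.Q) (𝟭 _) := ⟨i⟩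
  exact ⟨Localization.liftNatIso DerivedCategory.Q W (H.mapHomologicalComplex up ⋙ DerivedCategory.Q)
    (H.mapHomologicalComplex up ⋙ DerivedCategory.Q) _ _ (Iso.refl _)⟩

/-- a functor with two-sided inverse induces a fully faithful functor on derived categories -/
theorem fullyFaithful_of_inverse (F : A ⥤ B) (G : B ⥤ A) [F.Additive] [G.Additive]
    [PreservesFiniteLimits F] [PreservesFiniteColimits F] [PreservesFiniteLimits G] [PreservesFiniteColimits G]
    (e₁ : 𝟭 A ≅ F ⋙ G) (e₂ : 𝟭 B ≅ G ⋙ F) :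
    F.mapDerivedCategory.IsEquivalence := by
  haveI : PreservesFiniteLimits (F ⋙ G) := comp_preservesFiniteLimits F G
  haveI : PreservesFiniteColimits (F ⋙ G) := comp_preservesFiniteColimits F G
  haveI : PreservesFiniteLimits (G ⋙ F) := comp_preservesFiniteLimits G F
  haveI : PreservesFiniteColimits (G ⋙ F) := comp_preservesFiniteColimits G F
  obtain ⟨a⟩ := nonempty_comp_iso F G (F ⋙ G) (Iso.refl _)
  obtain ⟨b⟩ := nonempty_comp_iso G F (G ⋙ F) (Iso.refl _)
  obtain ⟨a'⟩ := nonempty_id_iso (F ⋙ G) e₁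
  obtain ⟨b'⟩ := nonempty_id_iso (G ⋙ F) e₂
  exact (CategoryTheory.Equivalence.mk F.mapDerivedCategory G.mapDerivedCategory
    (a' ≪≫ a.symm) (b ≪≫ b'.symm)).isEquivalence_functor

/-- exact functors preserve upper bounds -/
theorem isLE_map (F : A ⥤ B) [F.Additive] [PreservesFiniteLimits F] [PreservesFiniteColimits F]
    (M : DerivedCategory A) (b : ℤ) (h : M.IsLE b) : (F.mapDerivedCategory.obj M).IsLE b := by
  obtain ⟨K, hK, ⟨e⟩⟩ := DerivedCategory.exists_iso_Q_obj_of_isLE M b
  let L : CochainComplex B ℤ := (F.mapHomologicalComplex up).obj K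
  haveI : L.IsStrictlyLE b :=
    (CochainComplex.isStrictlyLE_iff L b).2 fun i hi => F.map_isZero (K.isZero_of_isStrictlyLE b i hi)
  haveI : DerivedCategory.IsLE ((F.mapHomologicalComplex up ⋙ DerivedCategory.Q).obj K) b :=
    inferInstanceAs ((DerivedCategory.Q.obj L).IsLE b)
  exact DerivedCategory.TStructure.t.isLE_of_iso
    (F.mapDerivedCategory.mapIso e ≪≫ F.mapDerivedCategoryFactors.app K).symm b

end Groth.DerivedCoh.DMinus
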